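import Mathlib
import Cfsg.Agent.Lib.H97.UniSys
import Cfsg.Agent.Lib.H97.UniFix

/-!
Consequences of systems of root subgroups: coprime automorphisms and abelianisations of Sylow subgroups.
-/

set_option autoImplicit false
set_option maxHeartbeats 400000

namespace H97.UniSqThm

open H22.RGD H97.PolSt H97.UniSys H97.UniFix Cfsg
open scoped commutatorElement Pointwise

theorem exists_simple_aux {Φ I : Type*} {C : RootComb Φ I} (L : List I) : ∀ {r : Φ}, C.pos r → ¬ C.pos (C.w L r) →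
    ∃ w ∈ C.W, ∃ i, w (C.simple i) = r := by
  induction L with
  | nil => intro r h1 h2; exact absurd h1 h2
  | cons i L ih =>
    intro r h1 h2
    by_cases h3 : C.pos (C.w L r)
    · rw [RootComb.w_cons, Equiv.Perm.mul_apply] at h2
      have h4 := C.pos_of_refl_neg h3 h2
      refine ⟨(C.w L)⁻¹, C.W.inv_mem (C.w_mem L), i, ?_⟩
      rw [← h4]
      exact Equiv.symm_apply_apply (C.w L) r
    · exact ih h1 h3

theorem exists_simple {Φ I : Type*} {C : RootComb Φ I} (hlong : ∃ w ∈ C.W, ∀ r, C.pos r → ¬ C.pos (w r)) {r : Φ}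
    (hr : C.pos r) : ∃ w ∈ C.W, ∃ i, w (C.simple i) = r := by
  obtain ⟨w, hw, h⟩ := hlong
  obtain ⟨L, rfl⟩ := C.exists_word hw
  exact exists_simple_aux L hr (h r hr)

theorem main_fix {G : Type*} [Group G] [Finite G] [IsSimpleGroup G] (p : ℕ) [Fact p.Prime] (hG : Uni p G) (α : MulAut G)
    (hα : ¬ p ∣ orderOf α) (U : Sylow p G) (hfix : ∀ x ∈ (U : Subgroup G), α x = x) : α = 1 := by
  obtain ⟨Φ, I, _, _, _, C, T, -⟩ := hG
  obtain ⟨P₀, hP₀⟩ := exists_sylow' T
  obtain ⟨g, hg⟩ := MulAction.exists_smul_eq G P₀ U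
  have h1 : ∀ x ∈ T.S.U, g * x * g⁻¹ ∈ (U : Subgroup G) := by
    intro x hx
    rw [← hg, Sylow.smul_def, Sylow.pointwise_smul_def]
    rw [← hP₀] at hx
    exact ⟨x, hx, rfl⟩
  have h2 : (MulAut.conj g)⁻¹ * α * MulAut.conj g = 1 := by
    apply fix_trivial T.S T.Γ _ (p := p) ?_ T.U
    · have e : (MulAut.conj g)⁻¹ * α * MulAut.conj g = MulAut.conj (MulAut.conj g)⁻¹ α := by
        rw [MulAut.conj_apply, inv_inv]
      rw [e, MulEquiv.orderOf_eq]
      exact hα
    · intro x hx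
      have h3 := hfix _ (h1 x hx)
      rw [MulAut.mul_apply, MulAut.mul_apply]
      change (MulAut.conj g)⁻¹ (α (g * x * g⁻¹)) = x
      rw [h3, MulAut.inv_def]
      exact (MulAut.conj g).symm_apply_apply x
  have e : α = MulAut.conj g * ((MulAut.conj g)⁻¹ * α * MulAut.conj g) * (MulAut.conj g)⁻¹ := by group
  rw [e, h2]; group

theorem U_sq {G : Type*} [Group G] {Φ I : Type*} {C : RootComb Φ I} (S : Sys G C)
    (hlong : ∃ w ∈ C.W, ∀ r, C.pos r → ¬ C.pos (w r)) (hSq : Sq S) : ∀ u : S.U, u ^ 2 ∈ commutator S.U := by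
  let φ : S.U →* Abelianization S.U := (powMonoidHom 2).comp Abelianization.of
  have hφ : ∀ u : S.U, u ∈ φ.ker ↔ u ^ 2 ∈ commutator S.U := by
    intro u
    rw [MonoidHom.mem_ker]
    change (Abelianization.of u) ^ 2 = 1 ↔ _
    rw [← map_pow, ← MonoidHom.mem_ker, Abelianization.ker_of]
  have hU : (commutator S.U).map S.U.subtype = ⁅S.U, S.U⁆ := by
    rw [commutator_def, Subgroup.map_commutator, ← MonoidHom.range_eq_map, Subgroup.range_subtype]
  have h1 : S.U ≤ φ.ker.map S.U.subtype := by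
    refine S.U_le fun r hr x hx => ?_
    have hxU := S.X_le_U hr hx
    refine ⟨⟨x, hxU⟩, ?_, rfl⟩
    rw [SetLike.mem_coe, hφ]
    have h2 : x ^ 2 ∈ ⁅S.U, S.U⁆ := by
      obtain ⟨w, hw, i, rfl⟩ := exists_simple hlong hr
      obtain ⟨m, hm⟩ := S.exists_rep' hw
      have h3 : cj m (S.X (C.simple i)) = S.X (w (C.simple i)) := hm.2.2 _
      rw [← h3] at hx
      obtain ⟨y, hy, rfl⟩ := hx
      have h4 := hSq i y hy
      have h5 : (⁅S.X (C.simple i), S.X (C.simple i)⁆).map (MulAut.conj m).toMonoidHom ≤ ⁅S.U, S.U⁆ := by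
        rw [Subgroup.map_commutator]
        have h6 : (S.X (C.simple i)).map (MulAut.conj m).toMonoidHom ≤ S.U := by
          have : (S.X (C.simple i)).map (MulAut.conj m).toMonoidHom = S.X (w (C.simple i)) := h3
          rw [this]; exact S.X_le_U hr
        exact Subgroup.commutator_mono h6 h6
      rw [← map_pow]
      exact h5 ⟨_, h4, rfl⟩
    rw [← hU] at h2
    obtain ⟨y, hy, e⟩ := h2
    have : (⟨x, hxU⟩ : S.U) ^ 2 = y := Subtype.ext e.symm
    rw [this]; exact hy
  intro u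
  rw [← hφ]
  obtain ⟨v, hv, e⟩ := h1 u.2
  have : v = u := Subtype.ext e
  rw [← this]; exact hv

theorem sq_transport {G H : Type*} [Group G] [Group H] (e : G ≃* H) (h : ∀ x : G, x ^ 2 ∈ commutator G) :
    ∀ x : H, x ^ 2 ∈ commutator H := by
  intro x
  have h1 := h (e.symm x)
  have h2 : (commutator G).map e.toMonoidHom = commutator H := by
    rw [commutator_def, Subgroup.map_commutator, ← MonoidHom.range_eq_map, MonoidHom.range_eq_top.2 e.surjective]
    rfl
  rw [← h2]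
  refine ⟨_, h1, ?_⟩
  change e ((e.symm x) ^ 2) = x ^ 2
  rw [map_pow, e.apply_symm_apply]

theorem main_sq {G : Type*} [Group G] [Finite G] (hG : Uni 2 G) (P : Sylow 2 G) :
    ∀ x : (P : Subgroup G), x ^ 2 ∈ commutator (P : Subgroup G) := by
  have : Fact (Nat.Prime 2) := ⟨Nat.prime_two⟩
  obtain ⟨Φ, I, _, _, _, C, T, hSq⟩ := hG
  obtain ⟨P₀, hP₀⟩ := exists_sylow' T
  have h1 := U_sq T.S T.long (hSq rfl)
  rw [← hP₀] at h1
  exact sq_transport (P₀.equiv P) h1

end H97.UniSqThm
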